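import Mathlib
import Cfsg.Agent.Helper9.J2O.Chk
import Cfsg.Agent.Helper9.J2B.Order
import Cfsg.Agent.Helper9.OutG.Main
import Cfsg.Agent.Helper9.HeO.Abs

set_option autoImplicit false

/-! The outer automorphism group of the Hall–Janko group has two elements. -/

noncomputable section

namespace Cfsg.Agent.Helper9.J2O

open Cfsg Cfsg.Agent.Helper9.OutG Cfsg.Agent.Helper9.J3 Cfsg.Agent.Helper9.J2B

set_option maxRecDepth 1000000 in
set_option maxHeartbeats 0 in
theorem tab_eq : ∀ l : Fin 4, ∀ x : Fin 315, T dD l.val x.val = gtab l.val x.val := by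
  decide +kernel

theorem letter_eq (l : Fin 4) :
    (El dD core.tab l.val : Equiv.Perm (Fin 315)) = gP l.val := by
  apply Equiv.ext
  intro (x : Fin 315)
  apply Fin.ext
  exact (tab_eq l x).trans (gP_apply l.val x).symm

theorem grp_eq : (GS core : Subgroup (Equiv.Perm (Fin 315))) = G315 := by
  show Subgroup.closure (Set.range fun l : Fin 4 => (El dD core.tab l.val :
    Equiv.Perm (Fin 315))) = G315
  unfold G315
  congr 1
  ext σ
  constructor
  · rintro ⟨l, rfl⟩
    exact ⟨l, (letter_eq l).symm⟩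
  · rintro ⟨l, rfl⟩
    exact ⟨l, letter_eq l⟩

theorem card_GS : Nat.card ↥(GS core) = 604800 := by
  have h : Nat.card ↥(GS core) = Nat.card ↥G315 :=
    congrArg (fun H : Subgroup (Equiv.Perm (Fin 315)) => Nat.card ↥H) grp_eq
  rw [h, card_G315]

/-- the Hall–Janko group is the group of the tables. -/
def J2EquivGS : Cfsg.Spor.J2 ≃* ↥(GS core) :=
  J2EquivG315.trans (MulEquiv.subgroupCongr grp_eq.symm)

theorem out_J2 : Nat.card (Cfsg.Out Cfsg.Spor.J2) = 2 := by
  rw [Cfsg.Agent.Helper9.HeO.card_out_congr J2EquivGS]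
  exact out_two core card_GS genOK sylOK (by decide) clsOK (by decide) tstOK hp2 hK0 tauOK

end Cfsg.Agent.Helper9.J2O

end
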